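import Groth.Agent.Lib.DerFlat9.KosFun
import Mathlib.Algebra.Homology.ShortComplex.PreservesHomology
import Mathlib.CategoryTheory.Localization.Adjunction

/-!
Units invertible on killed objects become quasi-isomorphisms on iterated cones; equivalence of complete objects.
-/

set_option autoImplicit false
set_option linter.unusedSectionVars false
set_option linter.style.haveILetI false
set_option backward.isDefEq.respectTransparency false

universe v u w

open CategoryTheory CategoryTheory.Limits CochainComplex HomologicalComplex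

namespace Groth.Agent.DerFlat9

open DerNull9

variable {A : Type u} [Category.{v} A] [Abelian A] {R : Type w} [CommRing R] [Linear R A]
  (T : A ⥤ A) [T.Additive] (θ : 𝟭 A ⟶ T)

/-- A functor on complexes. -/
noncomputable abbrev TX : CochainComplex A ℤ ⥤ CochainComplex A ℤ := T.mapHomologicalComplex (ComplexShape.up ℤ)

/-- A transformation on complexes. -/
noncomputable abbrev θX (X : CochainComplex A ℤ) : X ⟶ (TX T).obj X where
  f n := θ.app (X.X n)
  comm' i j _ := (θ.naturality (X.d i j)).symm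

theorem exists_iso_cone {X : CochainComplex A ℤ} (φ : X ⟶ X) (ψ : (TX T).obj X ⟶ (TX T).obj X)
    (h : (TX T).map φ = ψ) (comm : φ ≫ θX T θ X = θX T θ X ≫ ψ) :
    ∃ e : mappingCone ψ ≅ (TX T).obj (mappingCone φ),
      mappingCone.map φ ψ (θX T θ X) (θX T θ X) comm ≫ e.hom = θX T θ (mappingCone φ) := by
  subst h
  refine ⟨(mappingCone.mapHomologicalComplexIso φ T).symm, HomologicalComplex.hom_ext _ _ fun p => ?_⟩
  rw [mappingCone.ext_from_iff _ (p + 1) p rfl]
  have h1 := θ.naturality ((mappingCone.inl φ).v (p + 1) p (by omega))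
  have h2 := θ.naturality ((mappingCone.inr φ).f p)
  simp only [Functor.id_map] at h1 h2
  constructor
  · simp [mappingCone.map, mappingCone.mapHomologicalComplexIso,
      mappingCone.mapHomologicalComplexXIso_eq φ T p (p + 1) rfl, ← h1]
  · simp [mappingCone.map, mappingCone.mapHomologicalComplexIso,
      mappingCone.mapHomologicalComplexXIso_eq φ T p (p + 1) rfl, ← h2]

theorem exists_iso_kosF (hT : ∀ (s : R) (M : A), T.map (s • 𝟙 M) = s • 𝟙 (T.obj M)) (as : List R)
    (X : CochainComplex A ℤ) :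
    ∃ e : (kosF as).obj ((TX T).obj X) ≅ (TX T).obj ((kosF as).obj X),
      (kosF as).map (θX T θ X) ≫ e.hom = θX T θ ((kosF as).obj X) := by
  induction as generalizing X with
  | nil => exact ⟨Iso.refl _, Category.comp_id _⟩
  | cons a as ih =>
    obtain ⟨e₁, he₁⟩ := exists_iso_cone T θ (a • 𝟙 X) (a • 𝟙 ((TX T).obj X))
      (HomologicalComplex.hom_ext _ _ fun n => hT a (X.X n))
      (by rw [Linear.smul_comp, Linear.comp_smul, Category.id_comp, Category.comp_id])
    obtain ⟨e₂, he₂⟩ := ih ((K1 a).obj X)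
    refine ⟨(kosF as).mapIso e₁ ≪≫ e₂, ?_⟩
    show (kosF as).map ((K1 a).map (θX T θ X)) ≫ (kosF as).map e₁.hom ≫ e₂.hom = _
    rw [← Category.assoc, ← Functor.map_comp, show (K1 a).map (θX T θ X) ≫ e₁.hom = _ from he₁]
    exact he₂

variable [PreservesFiniteLimits T] [PreservesFiniteColimits T]

/-- Iterated cones of the transformation are quasi-isomorphisms. -/
theorem quasiIso_kosF_unit (hT : ∀ (s : R) (M : A), T.map (s • 𝟙 M) = s • 𝟙 (T.obj M)) (as : List R)
    (hθ : ∀ M : A, (∀ s ∈ as, s • 𝟙 M = 0) → IsIso (θ.app M)) (X : CochainComplex A ℤ) :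
    QuasiIso ((kosF as).map (θX T θ X)) := by
  obtain ⟨e, he⟩ := exists_iso_kosF T θ hT as X
  suffices QuasiIso (θX T θ ((kosF as).obj X)) by
    rw [← he] at this
    exact quasiIso_of_comp_right ((kosF as).map (θX T θ X)) e.hom
  refine ⟨fun n => (quasiIsoAt_iff_isIso_homologyMap _ n).2 ?_⟩
  let S := ((kosF as).obj X).sc n
  haveI h : IsIso (θ.app S.homology) := hθ _ fun s hs => smul_homology_kosF as hs X n
  rw [NatTrans.app_homology] at h
  show IsIso (ShortComplex.homologyMap (S.mapNatTrans θ))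
  haveI := IsIso.of_isIso_comp_left (S.mapHomologyIso (𝟭 A)).inv
    (ShortComplex.homologyMap (S.mapNatTrans θ) ≫ (S.mapHomologyIso T).hom)
  exact IsIso.of_isIso_comp_right (ShortComplex.homologyMap (S.mapNatTrans θ)) (S.mapHomologyIso T).hom

section Derived

variable {D D' : Type*} [Category D] [Category D'] {F : D ⥤ D'} {G : D' ⥤ D} (adj : F ⊣ G)
  (P : D → Prop) (P' : D' → Prop)

include adj in
/-- A right adjoint inducing an equivalence of reflective subcategories. -/
theorem bijective_and_essSurj (hG : ∀ {K}, P' K → P (G.obj K))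
    (hunit : ∀ E Z, P Z → Function.Bijective fun g : G.obj (F.obj E) ⟶ Z => adj.unit.app E ≫ g)
    (hcompl : ∀ W : D', ∃ (Z : D') (c : W ⟶ Z), P' Z ∧
      (∀ Y, P' Y → Function.Bijective fun g : Z ⟶ Y => c ≫ g) ∧
      ∀ Y, P Y → Function.Bijective fun g : G.obj Z ⟶ Y => G.map c ≫ g)
    [G.ReflectsIsomorphisms] :
    (∀ K L : D', P' K → P' L → Function.Bijective fun ψ : K ⟶ L => G.map ψ) ∧
      ∀ E, P E → ∃ K, P' K ∧ Nonempty (G.obj K ≅ E) := by
  have key : ∀ E, P E → ∀ (Z : D') (c : F.obj E ⟶ Z), P' Z →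
      (∀ Y, P Y → Function.Bijective fun g : G.obj Z ⟶ Y => G.map c ≫ g) →
      IsIso (adj.unit.app E ≫ G.map c) := fun E hE Z c hZ hc => by
    have hb : ∀ Y, P Y → Function.Bijective fun g : G.obj Z ⟶ Y => (adj.unit.app E ≫ G.map c) ≫ g := fun Y hY => by
      simp only [Category.assoc]
      exact (hunit E Y hY).comp (hc Y hY)
    obtain ⟨v, hv⟩ := (hb E hE).2 (𝟙 E)
    refine ⟨v, hv, (hb _ (hG hZ)).1 ?_⟩
    show (adj.unit.app E ≫ G.map c) ≫ v ≫ _ = (adj.unit.app E ≫ G.map c) ≫ 𝟙 _
    rw [← Category.assoc, show (adj.unit.app E ≫ G.map c) ≫ v = 𝟙 E from hv]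
    exact (Category.id_comp _).trans (Category.comp_id _).symm
  refine ⟨fun K L hK hL => ?_, fun E hE => ?_⟩
  · obtain ⟨Z, c, hZ, hc, hc'⟩ := hcompl (F.obj (G.obj K))
    obtain ⟨e, he⟩ := (hc K hK).2 (adj.counit.app K)
    haveI := key _ (hG hK) Z c hZ hc'
    haveI : IsIso (G.map e) := by
      have h1 : (adj.unit.app (G.obj K) ≫ G.map c) ≫ G.map e = 𝟙 _ := by
        rw [Category.assoc, ← Functor.map_comp, show c ≫ e = _ from he, adj.right_triangle_components]
        rfl
      haveI : IsIso ((adj.unit.app (G.obj K) ≫ G.map c) ≫ G.map e) := by rw [h1]; infer_instance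
      exact IsIso.of_isIso_comp_left (adj.unit.app (G.obj K) ≫ G.map c) (G.map e)
    haveI := isIso_of_reflects_iso e G
    have hε : Function.Bijective fun g : K ⟶ L => adj.counit.app K ≫ g := by
      rw [← show c ≫ e = _ from he]
      simp only [Category.assoc]
      exact (hc L hL).comp (asIso e).symm.homFromEquiv.bijective
    convert (adj.homEquiv (G.obj K) L).bijective.comp hε using 1
    funext ψ
    simp [Adjunction.homEquiv_unit]
  · obtain ⟨Z, c, hZ, -, hc⟩ := hcompl (F.obj E)
    haveI := key E hE Z c hZ hc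
    exact ⟨Z, hZ, ⟨(asIso (adj.unit.app E ≫ G.map c)).symm⟩⟩

end Derived

end Groth.Agent.DerFlat9
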