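import Groth.Agent.Lib.DerFlat9.Null
import Groth.Agent.Lib.KInjLocal9.DerComp
import Groth.Agent.Lib.KInj.DerivedAdj

/-!
Restriction along a flat map with the same quotient is an equivalence on derived complete objects.
-/

set_option autoImplicit false
set_option linter.unusedSectionVars false
set_option linter.style.haveILetI false
set_option backward.isDefEq.respectTransparency false
set_option backward.isDefEq.respectTransparency.types false

universe u

open CategoryTheory CategoryTheory.Limits Opposite DerComp

attribute [local instance] HasDerivedCategory.standard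

namespace Groth.Agent.DerFlat9

open ModFlat16 DerVanish9

section Gen

variable {A B : Type*} [Category A] [Category B] [Abelian A] [Abelian B]
  [HasDerivedCategory A] [HasDerivedCategory B]
  {F : A ⥤ B} {G : B ⥤ A} [F.Additive] [PreservesFiniteLimits F] [PreservesFiniteColimits F]
  [G.Additive] [PreservesFiniteLimits G] [PreservesFiniteColimits G]

/-- The derived adjunction of exact adjoints. -/
noncomputable def derAdj (adj : F ⊣ G) : F.mapDerivedCategory ⊣ G.mapDerivedCategory :=
  letI : CatCommSq (F.mapHomologicalComplex (ComplexShape.up ℤ)) DerivedCategory.Q DerivedCategory.Q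
    F.mapDerivedCategory := ⟨F.mapDerivedCategoryFactors.symm⟩
  letI : CatCommSq (G.mapHomologicalComplex (ComplexShape.up ℤ)) DerivedCategory.Q DerivedCategory.Q
    G.mapDerivedCategory := ⟨G.mapDerivedCategoryFactors.symm⟩
  (KInjLib.adjComplexes adj (ComplexShape.up ℤ)).localization
    DerivedCategory.Q (HomologicalComplex.quasiIso A (ComplexShape.up ℤ))
    DerivedCategory.Q (HomologicalComplex.quasiIso B (ComplexShape.up ℤ))
    F.mapDerivedCategory G.mapDerivedCategory

theorem derAdj_unit (adj : F ⊣ G) (X : CochainComplex A ℤ) :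
    ∃ e : DerivedCategory.Q.obj ((TX (F ⋙ G)).obj X) ≅
        G.mapDerivedCategory.obj (F.mapDerivedCategory.obj (DerivedCategory.Q.obj X)),
      (derAdj adj).unit.app (DerivedCategory.Q.obj X) = DerivedCategory.Q.map (θX (F ⋙ G) adj.unit X) ≫ e.hom := by
  let Fx := F.mapHomologicalComplex (ComplexShape.up ℤ)
  refine ⟨G.mapDerivedCategoryFactors.symm.app (Fx.obj X) ≪≫
    G.mapDerivedCategory.mapIso (F.mapDerivedCategoryFactors.symm.app X), ?_⟩
  letI : CatCommSq (F.mapHomologicalComplex (ComplexShape.up ℤ)) DerivedCategory.Q DerivedCategory.Q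
    F.mapDerivedCategory := ⟨F.mapDerivedCategoryFactors.symm⟩
  letI : CatCommSq (G.mapHomologicalComplex (ComplexShape.up ℤ)) DerivedCategory.Q DerivedCategory.Q
    G.mapDerivedCategory := ⟨G.mapDerivedCategoryFactors.symm⟩
  refine ((KInjLib.adjComplexes adj (ComplexShape.up ℤ)).localization_unit_app
    DerivedCategory.Q (HomologicalComplex.quasiIso A (ComplexShape.up ℤ))
    DerivedCategory.Q (HomologicalComplex.quasiIso B (ComplexShape.up ℤ))
    F.mapDerivedCategory G.mapDerivedCategory X).trans ?_
  have h : (KInjLib.adjComplexes adj (ComplexShape.up ℤ)).unit.app X = θX (F ⋙ G) adj.unit X :=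
    HomologicalComplex.hom_ext _ _ fun n => rfl
  rw [h]
  rfl

theorem reflectsIso_mapDerived (hG : ∀ {M : B}, IsZero (G.obj M) → IsZero M) :
    G.mapDerivedCategory.ReflectsIsomorphisms where
  reflects {K L} e _ := by
    obtain ⟨Z, b, c, hT⟩ := Pretriangulated.distinguished_cocone_triangle e
    have hz : IsZero (G.mapDerivedCategory.obj Z) :=
      (Pretriangulated.Triangle.isZero₃_iff_isIso₁ _ (G.mapDerivedCategory.map_distinguished _ hT)).2
        (inferInstanceAs (IsIso (G.mapDerivedCategory.map e)))
    refine (Pretriangulated.Triangle.isZero₃_iff_isIso₁ _ hT).1 ?_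
    let W := DerivedCategory.Q.objPreimage Z
    let i : DerivedCategory.Q.obj W ≅ Z := DerivedCategory.Q.objObjPreimageIso Z
    have hW : IsZero (DerivedCategory.Q.obj ((G.mapHomologicalComplex (ComplexShape.up ℤ)).obj W)) :=
      hz.of_iso ((G.mapDerivedCategoryFactors.app W).symm ≪≫ G.mapDerivedCategory.mapIso i)
    have h : ∀ n, IsZero (W.homology n) := fun n => hG (by
      refine IsZero.of_iso ?_ ((W.sc n).mapHomologyIso G).symm
      exact ((DerivedCategory.homologyFunctor A n).map_isZero hW).of_iso
        (show ((W.sc n).map G).homology ≅ _ from ((DerivedCategory.homologyFunctorFactors A n).app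
          ((G.mapHomologicalComplex (ComplexShape.up ℤ)).obj W)).symm))
    haveI : QuasiIso (0 : W ⟶ W) := ⟨fun n => (quasiIsoAt_iff_isIso_homologyMap _ n).2
      (isIso_of_source_target_iso_zero _ (h n).isoZero (h n).isoZero)⟩
    have h0 : IsZero (DerivedCategory.Q.obj W) := by
      rw [IsZero.iff_id_eq_zero]
      obtain ⟨j, hj, -⟩ := (inferInstance : IsIso (DerivedCategory.Q.map (0 : W ⟶ W))).out
      rw [Functor.map_zero, zero_comp] at hj
      exact hj.symm
    exact h0.of_iso i.symm

end Gen

variable {C : Type u} [SmallCategory C] {J : GrothendieckTopology C} {O O' : Sheaf J CommRingCat.{u}}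

theorem bijective_and_essSurj_restrict (φ : O ⟶ O') (I : IdealSh O) (hI : I.IsFiniteType) (I' : IdealSh O')
    (hq : QIso φ I I') (hTr : Tr φ)
    [PreservesFiniteLimits (RS φ)] [PreservesFiniteColimits (RS φ)]
    (hres : ∀ K', IsDerComp O' I' K' → IsDerComp O I ((RS φ).mapDerivedCategory.obj K')) :
    (∀ K' L' : DerivedCategory (ModSite.Mod O'), IsDerComp O' I' K' → IsDerComp O' I' L' →
      Function.Bijective fun ψ : K' ⟶ L' => (RS φ).mapDerivedCategory.map ψ) ∧
    ∀ E : DerivedCategory (ModSite.Mod O), IsDerComp O I E → ∃ K' : DerivedCategory (ModSite.Mod O'),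
      IsDerComp O' I' K' ∧ Nonempty ((RS φ).mapDerivedCategory.obj K' ≅ E) := by
  let f := ringMor φ
  haveI : PreservesFiniteLimits f.pull := preservesFiniteLimits_pull hTr
  haveI : PreservesFiniteColimits f.pull := preservesFiniteColimits_pull φ
  haveI : PreservesFiniteLimits f.push := preservesFiniteLimits_push φ
  haveI : PreservesFiniteColimits f.push := preservesFiniteColimits_push φ
  haveI : f.pull.Additive := Functor.additive_of_preserves_binary_products _
  haveI : (f.push.mapDerivedCategory).ReflectsIsomorphisms := reflectsIso_mapDerived fun {M} h => by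
    rw [IsZero.iff_id_eq_zero]
    exact push_map_injective φ (h.eq_of_src _ _)
  let ρ := mapDerivedIso (ringMorPushIso φ)
  let P : DerivedCategory (ModSite.Mod O) → Prop := fun K => IsDerComp O I K
  have hiso : ∀ {K L : DerivedCategory (ModSite.Mod O)}, (K ≅ L) → IsDerComp O I K → IsDerComp O I L :=
    fun e h U g hg n => (Iso.homCongr (Iso.refl _) ((shiftFunctor _ n).mapIso e)).subsingleton_congr.1 (h U g hg n)
  obtain ⟨h1, h2⟩ := bijective_and_essSurj (derAdj f.adj) P (fun K => IsDerComp O' I' K)
    (fun {K} hK => hiso (ρ.app K) (hres K hK))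
    (fun E Z hZ => by
      let i := DerivedCategory.Q.objObjPreimageIso E
      obtain ⟨e, he⟩ := derAdj_unit f.adj (DerivedCategory.Q.objPreimage E)
      have hb := bijective_unit_precomp hI hq hTr (DerivedCategory.Q.objPreimage E) Z hZ
      let e' := e ≪≫ f.push.mapDerivedCategory.mapIso (f.pull.mapDerivedCategory.mapIso i)
      have hb' := ((Iso.homCongr i (Iso.refl Z)).bijective.comp hb).comp
        (Iso.homCongr e'.symm (Iso.refl Z)).bijective
      convert hb' using 1
      funext g
      have hn := (derAdj f.adj).unit.naturality i.hom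
      simp only [Functor.id_map, Functor.comp_map] at hn
      rw [he] at hn
      simp only [Function.comp_apply, Iso.homCongr_apply, Iso.symm_inv, Iso.refl_hom, Category.comp_id]
      rw [← cancel_epi i.hom, ← Category.assoc, hn, Iso.hom_inv_id_assoc]
      simp [e']
      rfl)
    (fun W => by
      haveI := KInjLocal9.hasDerCompletion O' I'
      let c := toDerCompletion I' W
      have hc : ∀ Y, IsDerComp O' I' Y →
          Function.Bijective fun g : ((derCompletion O' I').obj W).obj ⟶ Y => c ≫ g := fun Y hY => by
        have h := ((derCompletionAdj O' I').homEquiv W ⟨Y, hY⟩).bijective.comp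
          (ObjectProperty.fullyFaithfulι _).homEquiv.symm.bijective
        convert h using 1
        funext g
        show _ = (derCompletionAdj O' I').homEquiv W ⟨Y, hY⟩ ((ObjectProperty.fullyFaithfulι _).homEquiv.symm g)
        rw [Adjunction.homEquiv_unit]
        rfl
      refine ⟨((derCompletion O' I').obj W).obj, c, ((derCompletion O' I').obj W).property, hc, fun Y hY => ?_⟩
      obtain ⟨hR, hιso⟩ := hasRpushD_ringMor φ
      haveI := hR
      obtain ⟨ι⟩ := hιso
      have hI' : RIsIdealExt f I I' := hq.ext
      have h := DerNull9.bijective_rpushD_precomp f I hI I' hI' c hc Y hY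
      have h' := ((Iso.homCongr (ι.app W).symm (Iso.refl Y)).bijective.comp h).comp
        (Iso.homCongr (ι.app _) (Iso.refl Y)).bijective
      convert h' using 1
      funext g
      simp only [Function.comp_apply, Iso.homCongr_apply, Iso.symm_inv, Iso.refl_hom, Category.comp_id,
        Iso.app_hom, Iso.app_inv]
      exact (by rw [← Category.assoc, ← Category.assoc, ← NatTrans.naturality ι.hom c, Category.assoc,
        Category.assoc, Iso.hom_inv_id_app_assoc]))
  refine ⟨fun K L hK hL => ?_, fun E hE => ?_⟩
  · convert (Iso.homCongr (ρ.app K).symm (ρ.app L).symm).bijective.comp (h1 K L hK hL) using 1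
    funext ψ
    simp only [Function.comp_apply, Iso.homCongr_apply, Iso.symm_inv, Iso.symm_hom, Iso.app_hom, Iso.app_inv]
    rw [← Category.assoc, ← ρ.hom.naturality, Category.assoc, Iso.hom_inv_id_app, Category.comp_id]
  · obtain ⟨K, hK, ⟨i⟩⟩ := h2 E hE
    exact ⟨K, hK, ⟨ρ.app K ≪≫ i⟩⟩

end Groth.Agent.DerFlat9
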