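import Groth.Agent.Lib.DerNull9.Kos
import Mathlib.Algebra.Homology.ShortComplex.Linear

/-!
The iterated cones of scalar multiplications as functors.
-/

set_option autoImplicit false
set_option linter.unusedSectionVars false
set_option linter.style.haveILetI false
set_option backward.isDefEq.respectTransparency false

universe v u w

open CategoryTheory CategoryTheory.Limits CochainComplex CochainComplex.HomComplex HomologicalComplex

namespace Groth.Agent.DerFlat9

open DerNull9

variable {A : Type u} [Category.{v} A] [Abelian A] {R : Type w} [CommRing R] [Linear R A]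

/-- The cone of a scalar as a functor. -/
noncomputable def K1 (a : R) : CochainComplex A ℤ ⥤ CochainComplex A ℤ where
  obj K := mappingCone (a • 𝟙 K)
  map {K L} f := mappingCone.map _ _ f f (by
    rw [Linear.smul_comp, Linear.comp_smul, Category.id_comp, Category.comp_id])
  map_id K := mappingCone.map_id _
  map_comp f g := mappingCone.map_comp _ _ _ _ _ _ _ _ _

theorem K1_f (a : R) {K L : CochainComplex A ℤ} (f : K ⟶ L) (p q : ℤ) (h : p + 1 = q) :
    ((K1 a).map f).f p = (mappingCone.fst (a • 𝟙 K)).1.v p q h ≫ f.f q ≫ (mappingCone.inl (a • 𝟙 L)).v q p (by omega) +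
      (mappingCone.snd (a • 𝟙 K)).v p p (add_zero p) ≫ f.f p ≫ (mappingCone.inr (a • 𝟙 L)).f p := by
  rw [mappingCone.ext_from_iff _ q p h]
  simp [K1, mappingCone.map]

instance (a : R) : (K1 (A := A) a).Additive where
  map_add {K L f g} := by
    refine HomologicalComplex.hom_ext _ _ fun p => ?_
    simp only [K1_f _ _ p (p + 1) rfl, HomologicalComplex.add_f_apply, Preadditive.add_comp, Preadditive.comp_add]
    abel

theorem K1_map_smul (a s : R) {K L : CochainComplex A ℤ} (f : K ⟶ L) :
    (K1 a).map (s • f) = s • (K1 a).map f := by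
  refine HomologicalComplex.hom_ext _ _ fun p => ?_
  simp only [K1_f _ _ p (p + 1) rfl, HomologicalComplex.smul_f_apply, Linear.smul_comp, Linear.comp_smul, smul_add]

theorem shortExact_K1 (a : R) {S : ShortComplex (CochainComplex A ℤ)} (hS : S.ShortExact) :
    (S.map (K1 a)).ShortExact := by
  refine HomologicalComplex.shortExact_of_degreewise_shortExact _ fun p => ?_
  have hS' : ∀ q, (S.map (HomologicalComplex.eval A (ComplexShape.up ℤ) q)).ShortExact := fun q =>
    hS.map_of_exact (HomologicalComplex.eval A (ComplexShape.up ℤ) q)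
  have hp : Mono (S.f.f p) := (hS' p).mono_f
  have hp' : Mono (S.f.f (p + 1)) := (hS' (p + 1)).mono_f
  have hq : Epi (S.g.f p) := (hS' p).epi_g
  have hq' : Epi (S.g.f (p + 1)) := (hS' (p + 1)).epi_g
  have f1 : ∀ {K L : CochainComplex A ℤ} (f : K ⟶ L),
      ((K1 a).map f).f p ≫ (mappingCone.fst (a • 𝟙 L)).1.v p (p + 1) rfl =
        (mappingCone.fst (a • 𝟙 K)).1.v p (p + 1) rfl ≫ f.f (p + 1) := fun {K L} f => by
    simp [K1_f a f p (p + 1) rfl]
  have f2 : ∀ {K L : CochainComplex A ℤ} (f : K ⟶ L),
      ((K1 a).map f).f p ≫ (mappingCone.snd (a • 𝟙 L)).v p p (add_zero p) =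
        (mappingCone.snd (a • 𝟙 K)).v p p (add_zero p) ≫ f.f p := fun {K L} f => by
    simp [K1_f a f p (p + 1) rfl]
  haveI hm : Mono (((K1 a).map S.f).f p) := by
    rw [Preadditive.mono_iff_cancel_zero]
    intro Z (t : Z ⟶ (mappingCone (a • 𝟙 S.X₁)).X p) ht
    rw [mappingCone.ext_to_iff _ p (p + 1) rfl]
    constructor
    · rw [zero_comp, ← cancel_mono (S.f.f (p + 1)), zero_comp, Category.assoc, ← f1, reassoc_of% ht, zero_comp]
    · rw [zero_comp, ← cancel_mono (S.f.f p), zero_comp, Category.assoc, ← f2, reassoc_of% ht, zero_comp]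
  haveI he : Epi (((K1 a).map S.g).f p) := by
    rw [Preadditive.epi_iff_cancel_zero]
    intro Z (t : (mappingCone (a • 𝟙 S.X₃)).X p ⟶ Z) ht
    rw [mappingCone.ext_from_iff _ (p + 1) p rfl, comp_zero, comp_zero]
    constructor
    · rw [← cancel_epi (S.g.f (p + 1)), comp_zero]
      have h := congrArg ((mappingCone.inl (a • 𝟙 S.X₂)).v (p + 1) p (by omega) ≫ ·) ht
      simpa [K1_f a S.g p (p + 1) rfl] using h
    · rw [← cancel_epi (S.g.f p), comp_zero]
      have h := congrArg ((mappingCone.inr (a • 𝟙 S.X₂)).f p ≫ ·) ht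
      simpa [K1_f a S.g p (p + 1) rfl] using h
  haveI : Mono ((S.map (K1 a)).map (HomologicalComplex.eval A (ComplexShape.up ℤ) p)).f := hm
  refine { exact := ShortComplex.exact_of_f_is_kernel _ (KernelFork.IsLimit.ofι' _ _ fun {Z} t ht => ?_), mono_f := hm, epi_g := he }
  change Z ⟶ (mappingCone (a • 𝟙 S.X₂)).X p at t
  change t ≫ ((K1 a).map S.g).f p = 0 at ht
  have h1 : (t ≫ (mappingCone.fst (a • 𝟙 S.X₂)).1.v p (p + 1) rfl) ≫ S.g.f (p + 1) = 0 := by
    rw [Category.assoc, ← f1, reassoc_of% ht, zero_comp]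
  have h2 : (t ≫ (mappingCone.snd (a • 𝟙 S.X₂)).v p p (add_zero p)) ≫ S.g.f p = 0 := by
    rw [Category.assoc, ← f2, reassoc_of% ht, zero_comp]
  haveI := (hS' p).mono_f
  haveI := (hS' (p + 1)).mono_f
  let u : Z ⟶ S.X₁.X (p + 1) := (hS' (p + 1)).exact.lift _ h1
  let v : Z ⟶ S.X₁.X p := (hS' p).exact.lift _ h2
  have hu : u ≫ S.f.f (p + 1) = t ≫ (mappingCone.fst (a • 𝟙 S.X₂)).1.v p (p + 1) rfl := (hS' (p + 1)).exact.lift_f _ h1
  have hv : v ≫ S.f.f p = t ≫ (mappingCone.snd (a • 𝟙 S.X₂)).v p p (add_zero p) := (hS' p).exact.lift_f _ h2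
  refine ⟨(u ≫ (mappingCone.inl (a • 𝟙 S.X₁)).v (p + 1) p (by omega) +
    v ≫ (mappingCone.inr (a • 𝟙 S.X₁)).f p : Z ⟶ (mappingCone (a • 𝟙 S.X₁)).X p), ?_⟩
  change _ ≫ ((K1 a).map S.f).f p = t
  rw [mappingCone.ext_to_iff _ p (p + 1) rfl]
  constructor
  · rw [Category.assoc, f1, ← hu]; simp
  · rw [Category.assoc, f2, ← hv]; simp

/-- The iterated cones as a functor. -/
noncomputable def kosF : List R → CochainComplex A ℤ ⥤ CochainComplex A ℤ
  | [] => 𝟭 _
  | a :: as => K1 a ⋙ kosF as

theorem kosF_obj (as : List R) (K : CochainComplex A ℤ) : (kosF as).obj K = kos as K := by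
  induction as generalizing K with
  | nil => rfl
  | cons a as ih => exact ih _

/-- Multiplication by `a` on its cone is null homotopic. -/
noncomputable def smulHomotopy (a : R) (K : CochainComplex A ℤ) :
    Homotopy (a • 𝟙 (mappingCone (a • 𝟙 K))) 0 :=
  Cochain.equivHomotopy _ _ |>.symm
    ⟨(mappingCone.snd (a • 𝟙 K)).comp (mappingCone.inl (a • 𝟙 K)) (zero_add _), by
      ext p
      simp [mappingCone.ext_from_iff _ (p + 1) p rfl, δ_v (-1) 0 (by omega) _ p p (add_zero p) (p - 1) (p + 1) rfl rfl,
        mappingCone.d_snd_v _ p (p + 1) rfl, mappingCone.inl_v_d_assoc _ (p + 1) p (p + 1 + 1) (by omega) (by omega), mappingCone.inl_v_d _ p (p - 1) (p + 1) (by omega) (by omega),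
        mappingCone.d_fst_v _ p (p + 1) (p + 1 + 1) rfl rfl]⟩

instance additive_kosF : ∀ as : List R, (kosF (A := A) as).Additive
  | [] => inferInstanceAs (𝟭 (CochainComplex A ℤ)).Additive
  | a :: as => haveI := additive_kosF as; inferInstanceAs ((K1 a) ⋙ kosF as).Additive

theorem kosF_map_smul (as : List R) (s : R) {K L : CochainComplex A ℤ} (f : K ⟶ L) :
    (kosF as).map (s • f) = s • (kosF as).map f := by
  induction as generalizing K L with
  | nil => rfl
  | cons a as ih =>
    show (kosF as).map ((K1 a).map (s • f)) = _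
    rw [K1_map_smul, ih]
    rfl

theorem shortExact_kosF (as : List R) {S : ShortComplex (CochainComplex A ℤ)} (hS : S.ShortExact) :
    (S.map (kosF as)).ShortExact := by
  induction as generalizing S with
  | nil => exact hS
  | cons a as ih => exact ih (shortExact_K1 a hS)

attribute [local instance] HasDerivedCategory.standard

theorem quasiIso_K1 (a : R) {K L : CochainComplex A ℤ} (f : K ⟶ L) [QuasiIso f] : QuasiIso ((K1 a).map f) := by
  let φ := DerivedCategory.Q.mapTriangle.map (mappingCone.triangleMap (a • 𝟙 K) (a • 𝟙 L) f f (by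
    rw [Linear.smul_comp, Linear.comp_smul, Category.id_comp, Category.comp_id]))
  rw [← DerivedCategory.isIso_Q_map_iff_quasiIso]
  exact Pretriangulated.isIso₃_of_isIso₁₂ φ (DerivedCategory.mappingCone_triangle_distinguished _)
    (DerivedCategory.mappingCone_triangle_distinguished _) (inferInstanceAs (IsIso (DerivedCategory.Q.map f)))
    (inferInstanceAs (IsIso (DerivedCategory.Q.map f)))

theorem quasiIso_kosF (as : List R) {K L : CochainComplex A ℤ} (f : K ⟶ L) (hf : QuasiIso f) :
    QuasiIso ((kosF as).map f) := by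
  induction as generalizing K L with
  | nil => exact hf
  | cons a as ih => exact ih _ (quasiIso_K1 a f)

/-- The generators kill the homology of the iterated cones. -/
theorem smul_homology_kosF (as : List R) {s : R} (hs : s ∈ as) (K : CochainComplex A ℤ) (n : ℤ) :
    s • 𝟙 (((kosF as).obj K).homology n) = 0 := by
  induction as generalizing K with
  | nil => cases hs
  | cons a as ih =>
    rcases List.mem_cons.1 hs with rfl | hs
    · let M := mappingCone (s • 𝟙 K)
      let H := smulHomotopy s K
      let N := mappingCone (𝟙 M)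
      let g : N ⟶ M := mappingCone.desc (𝟙 M) (Cochain.ofHomotopy H) (s • 𝟙 M) (by simp; rfl)
      have hg : mappingCone.inr (𝟙 M) ≫ g = s • 𝟙 M := mappingCone.inr_desc _ _ _ _
      have hN : IsZero (DerivedCategory.Q.obj ((kosF as).obj N)) := by
        haveI : QuasiIso (0 : N ⟶ N) := by
          rw [← DerivedCategory.isIso_Q_map_iff_quasiIso]
          have hz : IsZero (DerivedCategory.Q.obj N) :=
            (Pretriangulated.Triangle.isZero₃_iff_isIso₁ _ (DerivedCategory.mappingCone_triangle_distinguished (𝟙 M))).2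
              (inferInstanceAs (IsIso (DerivedCategory.Q.map (𝟙 M))))
          exact ⟨0, hz.eq_of_src _ _, hz.eq_of_src _ _⟩
        haveI := quasiIso_kosF as (0 : N ⟶ N) inferInstance
        rw [IsZero.iff_id_eq_zero]
        obtain ⟨i, h, -⟩ := (inferInstance : IsIso (DerivedCategory.Q.map ((kosF as).map (0 : N ⟶ N)))).out
        rw [Functor.map_zero, Functor.map_zero, zero_comp] at h
        exact h.symm
      have h0 : DerivedCategory.Q.map (s • 𝟙 ((kosF as).obj M)) = 0 := by
        rw [← CategoryTheory.Functor.map_id, ← kosF_map_smul, ← hg, Functor.map_comp, Functor.map_comp,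
          hN.eq_of_tgt (DerivedCategory.Q.map ((kosF as).map (mappingCone.inr (𝟙 M)))) 0, zero_comp]
      have h1 := congrArg (DerivedCategory.homologyFunctor A n).map h0
      rw [Functor.map_zero] at h1
      have h2 := (DerivedCategory.homologyFunctorFactors A n).inv.naturality (s • 𝟙 ((kosF as).obj M))
      simp only [Functor.comp_map] at h2
      erw [h1, comp_zero] at h2
      have h3 : (HomologicalComplex.homologyFunctor A (ComplexShape.up ℤ) n).map (s • 𝟙 ((kosF as).obj M)) = 0 :=
        (cancel_mono ((DerivedCategory.homologyFunctorFactors A n).inv.app _)).1 (h2.trans zero_comp.symm)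
      have h4 : (HomologicalComplex.shortComplexFunctor A (ComplexShape.up ℤ) n).map (s • 𝟙 ((kosF as).obj M)) =
          s • 𝟙 ((HomologicalComplex.shortComplexFunctor A (ComplexShape.up ℤ) n).obj ((kosF as).obj M)) := by ext <;> rfl
      show s • 𝟙 ((((kosF as).obj M).sc n).homology) = 0
      rw [← ShortComplex.homologyMap_id (((kosF as).obj M).sc n), ← ShortComplex.homologyMap_smul]
      change ShortComplex.homologyMap (s • 𝟙 ((HomologicalComplex.shortComplexFunctor A (ComplexShape.up ℤ) n).obj
        ((kosF as).obj M))) = 0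
      rw [← h4]
      exact h3
    · exact ih hs _

end Groth.Agent.DerFlat9
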