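import Groth.Agent.Lib.DerFlat9.Structure
import Groth.Agent.Lib.DerNull9.Test
import Groth.Agent.Lib.DerVanish9.Restrict
import Groth.Agent.Lib.ModFlat16.PullRestr
import Groth.Agent.Lib.FormalModH7.EqFlat

/-!
Flat maps of rings with the same quotient, on slices.
-/

set_option autoImplicit false
set_option linter.unusedSectionVars false
set_option linter.style.haveILetI false
set_option backward.isDefEq.respectTransparency false
set_option backward.isDefEq.respectTransparency.types false

universe u

open CategoryTheory CategoryTheory.Limits Opposite DerComp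

namespace Groth.Agent.DerFlat9

open ModFlat16 DerVanish9

variable {C : Type u} [SmallCategory C] {J : GrothendieckTopology C} {O O' : Sheaf J CommRingCat.{u}}
  {ψ : O ⟶ O'}

variable (ψ) in
/-- The map on a slice. -/
noncomputable abbrev overMor (V : C) : O.over V ⟶ O'.over V := (J.overPullback CommRingCat.{u} V).map ψ

variable (ψ) in
/-- Relations over the map are locally trivial. -/
def Tr : Prop :=
  ∀ (W : C) (l : ℕ) (n : Fin l → O'.obj.obj (op W)) (a : Fin l → O.obj.obj (op W)),
    ∑ i, pm ψ W (a i) * n i = 0 → ∃ S ∈ J W, ∀ ⦃W' : C⦄ (k : W' ⟶ W), S k →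
      ∃ (r : ℕ) (c : Fin l → Fin r → O.obj.obj (op W')) (z : Fin r → O'.obj.obj (op W')),
        (∀ i, rmap O' k (n i) = ∑ q, pm ψ W' (c i q) * z q) ∧ ∀ q, ∑ i, c i q * rmap O k (a i) = 0

theorem tr_of_isFlat (h : ModSite.IsFlat ((RS ψ).obj (ModSite.unit O'))) : Tr ψ := fun W l n a h0 => by
  obtain ⟨S, hS, hS'⟩ := relTriv_of_isFlat h W l a n h0
  refine ⟨S, hS, fun W' k hk => ?_⟩
  obtain ⟨r, t, c, h1, h2⟩ := hS' k hk
  exact ⟨r, c, t, h1, h2⟩

theorem tr_over (h : Tr ψ) (V : C) : Tr (overMor ψ V) := fun W l n a h0 => by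
  obtain ⟨S, hS, hS'⟩ := h W.left l n a h0
  refine ⟨(Sieve.overEquiv W).symm S, J.overEquiv_symm_mem_over _ S hS, fun W' k hk => ?_⟩
  exact hS' k.left ((Sieve.overEquiv_symm_iff S k).1 hk)

theorem preservesFiniteLimits_pull (h : Tr ψ) : PreservesFiniteLimits (ringMor ψ).pull := by
  refine FormalModH7.isFlat_of_eqFlat (fun W V₀ u₀ l n a h0 => ?_)
  have hr : ∀ {U V : C} (g : U ⟶ V) (x : O.obj.obj (op V)), rho (ringMor ψ) g x = pm ψ U (rmap O g x) :=
    fun g x => (pm_rmap ψ g x).symm
  obtain ⟨S, hS, hS'⟩ := h W l n (fun i => rmap O u₀ (a i))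
    (by rw [← h0]; exact Finset.sum_congr rfl fun i _ => by rw [← hr]; exact mul_comm _ _)
  refine ⟨S, hS, fun W' k hk => ?_⟩
  obtain ⟨r, c, z, h1, h2⟩ := hS' k hk
  refine ⟨W', k ≫ u₀, 𝟙 W', r, c, z, ?_, fun i => ?_, fun q => ?_⟩
  · exact Category.id_comp _
  · rw [h1 i]
    exact Finset.sum_congr rfl fun q _ => by rw [hr]; simp [rmap]
  · rw [← h2 q]
    exact Finset.sum_congr rfl fun i _ => by rw [rmap_comp]; rfl

variable {I : IdealSh O} {I' : IdealSh O'}

theorem qiso_over (h : QIso ψ I I') (V : C) : QIso (overMor ψ V) (I.over V) (I'.over V) where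
  ext := ⟨fun A g hg => h.ext.1 A.left g hg, fun I'' hI'' => by
    let K : IdealSh O' :=
      { ideal := fun W =>
          { carrier := {r | ∀ (B : C) (q : B ⟶ W) (y : B ⟶ V), rmap O' q r ∈ I''.ideal (Over.mk y)}
            add_mem' := fun hr hs B q y => by
              rw [map_add]; exact (I''.ideal (Over.mk y)).add_mem (hr B q y) (hs B q y)
            zero_mem' := fun B q y => by rw [map_zero]; exact (I''.ideal (Over.mk y)).zero_mem
            smul_mem' := fun c r hr B q y => by
              rw [smul_eq_mul, map_mul]; exact (I''.ideal (Over.mk y)).mul_mem_left _ (hr B q y) }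
        map_mem := fun g r hr B q y => by
          show rmap O' q (rmap O' g _) ∈ _
          rw [← rmap_comp]; exact hr B _ y
        glue := fun {U r} S hS hr B q y => by
          refine I''.glue ((Sieve.overEquiv (Over.mk y)).symm (S.pullback q))
            (J.overEquiv_symm_mem_over _ _ (J.pullback_stable q hS)) fun A g hg => ?_
          have h' := hr (g.left ≫ q) ((Sieve.overEquiv_symm_iff _ g).1 hg) A.left (𝟙 _) A.hom
          have e : rmap O' g.left (rmap O' q r) = rmap O' (𝟙 A.left) (rmap O' (g.left ≫ q) r) :=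
            (rmap_comp q g.left r).symm.trans ((congrArg (fun t => rmap O' t r) (Category.id_comp _).symm).trans
              (rmap_comp (g.left ≫ q) (𝟙 _) r))
          exact Set.mem_of_eq_of_mem (s := {x | x ∈ I''.ideal A}) e h' }
    have hK : MapsIdealInto ψ I K := fun W g hg B q y => by
      show rmap O' q (pm ψ W g) ∈ _
      rw [← pm_rmap]
      exact hI'' (Over.mk y) _ (I.map_mem q hg)
    intro A f hf
    have h' := h.ext.2 K hK A.left hf A.left (𝟙 _) A.hom
    rwa [show rmap O' (𝟙 A.left) f = f by simp [rmap]] at h'⟩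
  inj A f hf := h.inj A.left f hf
  surj A r := by
    obtain ⟨S, hS, hS'⟩ := h.surj A.left r
    exact ⟨(Sieve.overEquiv A).symm S, J.overEquiv_symm_mem_over _ S hS,
      fun Z k hk => hS' k.left ((Sieve.overEquiv_symm_iff S k).1 hk)⟩

/-- Modules killed by generators are killed by the ideal. -/
theorem killed_over {V : C} {r : ℕ} {a : Fin r → O.obj.obj (op V)}
    (ha : (I.over V).IsGenBy fun i => GSec.ofSect O V (a i)) {M : ModSite.Mod (O.over V)}
    (hM : ∀ s ∈ DerNull9.sects O a, s • 𝟙 M = 0) : Killed (I.over V) M := fun A f hf x => by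
  obtain ⟨S, hS, hS'⟩ := DerNull9.locSpan_of_isGenBy ha A.hom hf
  refine eq_of_locally _ _ ((Sieve.overEquiv A).symm S) (J.overEquiv_symm_mem_over _ S hS) fun Z k hk => ?_
  rw [smap_smul, map_zero]
  have h1 := hS' k.left ((Sieve.overEquiv_symm_iff S k).1 hk)
  let Ann : Ideal (O.obj.obj (op Z.left)) :=
    { carrier := {c | (show (O.over V).obj.obj (op Z) from c) • smap M k x = 0}
      add_mem' := fun {c d} hc hd => (add_smul (R := (ModSite.ringSh (O.over V)).obj.obj (op Z)) _ _ _).trans
        (by erw [hc, hd]; exact add_zero _)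
      zero_mem' := zero_smul ((ModSite.ringSh (O.over V)).obj.obj (op Z)) _
      smul_mem' := fun c d hd => (mul_smul (α := (ModSite.ringSh (O.over V)).obj.obj (op Z)) _ _ _).trans
        (by erw [hd]; exact smul_zero _) }
  refine (show rmap O k.left f ∈ Ann from (Ideal.span_le (I := Ann)).2 ?_ h1)
  rintro _ ⟨i, rfl⟩
  have h2 := hM _ (List.mem_ofFn.2 ⟨i, rfl⟩)
  rw [smul_def, Category.comp_id] at h2
  have h3 := congrArg (fun φ : M ⟶ M => φ.val.app (op Z) (smap M k x)) h2
  show (show (O.over V).obj.obj (op Z) from (O.obj.map (k.left ≫ A.hom).op).hom (a i)) • smap M k x = 0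
  rw [show k.left ≫ A.hom = Z.hom from Over.w k]
  exact h3

section Compat

variable (ψ) (V : C)

/-- Restriction commutes with restriction of scalars. -/
noncomputable def restrCompIso : ModSite.restr O' V ⋙ (ringMor (overMor ψ V)).push ≅
    (ringMor ψ).push ⋙ ModSite.restr O V :=
  NatIso.ofComponents (fun _ => (SheafOfModules.fullyFaithfulForget _).preimageIso
    (PresheafOfModules.isoMk (fun _ => Iso.refl _)))

/-- The slice functor and the general one. -/
noncomputable def pushVIso : pushV (ringMor ψ) V ≅ (ringMor (overMor ψ V)).push :=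
  NatIso.ofComponents (fun _ => (SheafOfModules.fullyFaithfulForget _).preimageIso
    (PresheafOfModules.isoMk (fun _ => Iso.refl _)))

/-- The comparison of inverse images. -/
noncomputable def beta : ModSite.restr O V ⋙ (ringMor (overMor ψ V)).pull ⟶
    (ringMor ψ).pull ⋙ ModSite.restr O' V where
  app M := (((ringMor (overMor ψ V)).adj.homEquiv _ _).symm
    ((ModSite.restr O V).map ((ringMor ψ).adj.unit.app M) ≫ (restrCompIso ψ V).inv.app _))
  naturality M N g := by
    apply ((ringMor (overMor ψ V)).adj.homEquiv _ _).injective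
    simp only [Functor.comp_map]
    rw [Adjunction.homEquiv_naturality_left, Adjunction.homEquiv_naturality_right, Equiv.apply_symm_apply,
      Equiv.apply_symm_apply]
    have h := (restrCompIso ψ V).inv.naturality ((ringMor ψ).pull.map g)
    simp only [Functor.comp_map] at h
    rw [Category.assoc, ← h, ← Category.assoc, ← Category.assoc, ← Functor.map_comp, ← Functor.map_comp]
    exact congrArg (fun t => (ModSite.restr O V).map t ≫ _) ((ringMor ψ).adj.unit.naturality g)

theorem isIso_beta (M : ModSite.Mod O) : IsIso ((beta ψ V).app M) := by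
  let f := ringMor ψ
  let g := ringMor (overMor ψ V)
  let adj' := (adjV f V).ofNatIsoRight (pushVIso ψ V)
  let v := (adj'.leftAdjointUniq g.adj).app ((ModSite.restr O V).obj M)
  have key : v.hom ≫ (beta ψ V).app M = (pullRestrIso f V M).hom := by
    apply (adj'.homEquiv _ _).injective
    rw [Adjunction.homEquiv_naturality_right]
    have h1 : adj'.homEquiv _ _ v.hom = g.adj.unit.app _ := by
      rw [Adjunction.homEquiv_unit]; exact Adjunction.unit_leftAdjointUniq_hom_app _ _ _
    rw [h1]
    refine ((g.adj.homEquiv_unit ..).symm.trans (Equiv.apply_symm_apply _ _)).trans ?_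
    have h2 : toPush f M ≫ f.push.map (pullPresIso f M).inv = f.adj.unit.app M := toPush_descSh (f.adj.unit.app M)
    rw [← h2, Functor.map_comp]
    show _ = (adjV f V).homEquiv _ _ (pullRestrIso f V M).hom ≫ (pushVIso ψ V).hom.app _
    rw [pullRestrIso, Iso.trans_hom, asIso_hom, Adjunction.homEquiv_naturality_right, pullRestrHom,
      Equiv.apply_symm_apply]
    rfl
  rw [show (beta ψ V).app M = v.inv ≫ (pullRestrIso f V M).hom by rw [← key]; simp]
  infer_instance

/-- The comparison of the composites. -/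
noncomputable def gamma : ModSite.restr O V ⋙ (ringMor (overMor ψ V)).pull ⋙ (ringMor (overMor ψ V)).push ≅
    ((ringMor ψ).pull ⋙ (ringMor ψ).push) ⋙ ModSite.restr O V :=
  haveI : ∀ M, IsIso ((beta ψ V).app M) := isIso_beta ψ V
  haveI : IsIso (beta ψ V) := NatIso.isIso_of_isIso_app _
  (Functor.associator _ _ _).symm ≪≫ Functor.isoWhiskerRight (asIso (beta ψ V)) _ ≪≫ Functor.associator _ _ _ ≪≫
    Functor.isoWhiskerLeft _ (restrCompIso ψ V) ≪≫ (Functor.associator _ _ _).symm

theorem unit_gamma (M : ModSite.Mod O) :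
    (ringMor (overMor ψ V)).adj.unit.app ((ModSite.restr O V).obj M) ≫ (gamma ψ V).hom.app M =
      (ModSite.restr O V).map ((ringMor ψ).adj.unit.app M) := by
  simp only [gamma, Iso.trans_hom, Iso.symm_hom, NatTrans.comp_app, Functor.associator_inv_app,
    Functor.associator_hom_app, Functor.isoWhiskerRight_hom, Functor.whiskerRight_app, asIso_hom,
    Functor.isoWhiskerLeft_hom, Functor.whiskerLeft_app, Category.id_comp, Category.comp_id]
  rw [← Category.assoc]
  erw [← Adjunction.homEquiv_unit]
  simp [beta]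

end Compat

end Groth.Agent.DerFlat9
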