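import Groth.Agent.Lib.DerFlat9.Ab
import Groth.Agent.Lib.DerFlat9.Slice
import Groth.Agent.Lib.DerNull9.Push

/-!
The unit along a flat map with the same quotient has locally null cone.
-/

set_option autoImplicit false
set_option linter.unusedSectionVars false
set_option linter.style.haveILetI false
set_option backward.isDefEq.respectTransparency false
set_option backward.isDefEq.respectTransparency.types false

universe u

open CategoryTheory CategoryTheory.Limits Opposite DerComp

attribute [local instance] HasDerivedCategory.standard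

namespace Groth.Agent.DerFlat9

open ModFlat16 DerVanish9

variable {C : Type u} [SmallCategory C] {J : GrothendieckTopology C} {O O' : Sheaf J CommRingCat.{u}}

section General

variable (ψ : O ⟶ O')

theorem preservesFiniteColimits_push : PreservesFiniteColimits (ringMor ψ).push where
  preservesFiniteColimits K _ _ := by
    let e : (ringMor ψ).push ⋙ SheafOfModules.toSheaf.{u} (ModSite.ringSh O) ≅
        SheafOfModules.toSheaf.{u} (ModSite.ringSh O') := NatIso.ofComponents fun _ => Iso.refl _
    haveI : PreservesFiniteColimits (SheafOfModules.toSheaf.{u} (ModSite.ringSh O')) := by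
      haveI : PreservesColimitsOfSize.{u, u} (SheafOfModules.toSheaf.{u} (ModSite.ringSh O')) :=
        ⟨fun {K} => CohFound.preservesColimitsOfShape_sheafOfModules_toSheaf (ModSite.ringSh O') K⟩
      haveI : PreservesColimitsOfSize.{0, 0} (SheafOfModules.toSheaf.{u} (ModSite.ringSh O')) :=
        preservesColimitsOfSize_shrink.{0, u, 0, u} _
      exact PreservesColimitsOfSize.preservesFiniteColimits _
    haveI : PreservesColimitsOfShape K ((ringMor ψ).push ⋙ SheafOfModules.toSheaf.{u} (ModSite.ringSh O)) :=
      preservesColimitsOfShape_of_natIso e.symm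
    haveI : PreservesFiniteColimits (SheafOfModules.toSheaf.{u} (ModSite.ringSh O)) := by
      haveI : PreservesColimitsOfSize.{u, u} (SheafOfModules.toSheaf.{u} (ModSite.ringSh O)) :=
        ⟨fun {K} => CohFound.preservesColimitsOfShape_sheafOfModules_toSheaf (ModSite.ringSh O) K⟩
      haveI : PreservesColimitsOfSize.{0, 0} (SheafOfModules.toSheaf.{u} (ModSite.ringSh O)) :=
        preservesColimitsOfSize_shrink.{0, u, 0, u} _
      exact PreservesColimitsOfSize.preservesFiniteColimits _
    haveI : ReflectsColimitsOfShape K (SheafOfModules.toSheaf.{u} (ModSite.ringSh O)) :=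
      reflectsColimitsOfShape_of_reflectsIsomorphisms
    exact preservesColimitsOfShape_of_reflects_of_preserves _ (SheafOfModules.toSheaf.{u} (ModSite.ringSh O))

theorem preservesFiniteLimits_push : PreservesFiniteLimits (ringMor ψ).push :=
  haveI : PreservesLimitsOfSize.{0, 0} (ringMor ψ).push := (ringMor ψ).adj.rightAdjoint_preservesLimits
  PreservesLimitsOfSize.preservesFiniteLimits _

theorem preservesFiniteColimits_pull : PreservesFiniteColimits (ringMor ψ).pull :=
  haveI : PreservesColimitsOfSize.{0, 0} (ringMor ψ).pull := (ringMor ψ).adj.leftAdjoint_preservesColimits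
  PreservesColimitsOfSize.preservesFiniteColimits _

theorem push_map_injective {N N' : ModSite.Mod O'} {a b : N ⟶ N'}
    (h : (ringMor ψ).push.map a = (ringMor ψ).push.map b) : a = b :=
  SheafOfModules.hom_ext (PresheafOfModules.hom_ext fun W => ModuleCat.hom_ext (LinearMap.ext fun x =>
    congrArg (fun t : (ringMor ψ).push.obj N ⟶ (ringMor ψ).push.obj N' => t.val.app W x) h))

theorem pullpush_smul (s : GSec O) (M : ModSite.Mod O) :
    ((ringMor ψ).pull ⋙ (ringMor ψ).push).map (s • 𝟙 M) =
      s • 𝟙 (((ringMor ψ).pull ⋙ (ringMor ψ).push).obj M) := by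
  let s' : GSec O' := ⟨fun U => pm ψ U (s.1 U), fun U V g => by
    show rmap O' g (pm ψ U (s.1 U)) = _
    rw [← pm_rmap]
    exact congrArg (pm ψ V) (s.2 g)⟩
  have hp : ∀ N : ModSite.Mod O', (ringMor ψ).push.map (smulEnd s' N) = smulEnd s ((ringMor ψ).push.obj N) :=
    fun N => SheafOfModules.hom_ext (PresheafOfModules.hom_ext fun W => ModuleCat.hom_ext (LinearMap.ext fun _ => rfl))
  rw [smul_def, smul_def, Category.comp_id, Category.comp_id]
  have h : (ringMor ψ).pull.map (smulEnd s M) = smulEnd s' ((ringMor ψ).pull.obj M) := by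
    apply ((ringMor ψ).adj.homEquiv _ _).injective
    rw [Adjunction.homEquiv_unit, Adjunction.homEquiv_unit, hp]
    exact ((ringMor ψ).adj.unit.naturality _).symm.trans (smulEnd_comm s ((ringMor ψ).adj.unit.app M))
  rw [Functor.comp_map, h, hp]
  rfl

end General

variable {φ : O ⟶ O'} {I : IdealSh O} {I' : IdealSh O'}

/-- The unit of the composite is a quasi-isomorphism on the iterated cones of local generators. -/
theorem quasiIso_restr_unit (hq : QIso φ I I') (hTr : Tr φ) {V : C} {r : ℕ} {a : Fin r → O.obj.obj (op V)}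
    (ha : (I.over V).IsGenBy fun i => GSec.ofSect O V (a i)) (X : CochainComplex (ModSite.Mod O) ℤ) :
    QuasiIso ((kosF (DerNull9.sects O a)).map
      ((DerNull9.Rx O V).map (θX ((ringMor φ).pull ⋙ (ringMor φ).push) (ringMor φ).adj.unit X))) := by
  let g := ringMor (overMor φ V)
  haveI : PreservesFiniteLimits g.pull := preservesFiniteLimits_pull (tr_over hTr V)
  haveI : PreservesFiniteColimits g.pull := preservesFiniteColimits_pull _
  haveI : PreservesFiniteLimits g.push := preservesFiniteLimits_push _
  haveI : PreservesFiniteColimits g.push := preservesFiniteColimits_push _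
  haveI : g.pull.Additive := Functor.additive_of_preserves_binary_products _
  haveI h1 := quasiIso_kosF_unit (g.pull ⋙ g.push) g.adj.unit (R := GSec (O.over V)) (pullpush_smul _)
    (DerNull9.sects O a) (fun M hM => by
      haveI := isIso_unit (killed_over ha hM) (qiso_over hq V) (g.adj.ofNatIsoRight (ringMorPushIso _).symm)
      have e : (g.adj.ofNatIsoRight (ringMorPushIso _).symm).unit.app M =
          g.adj.unit.app M ≫ (ringMorPushIso (overMor φ V)).inv.app (g.pull.obj M) := by
        rw [← Adjunction.homEquiv_id]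
        simp [Adjunction.ofNatIsoRight, Adjunction.homEquiv_unit]
      rw [e] at this
      exact IsIso.of_isIso_comp_right (g.adj.unit.app M) ((ringMorPushIso (overMor φ V)).inv.app _))
    ((DerNull9.Rx O V).obj X)
  let γ : (TX (g.pull ⋙ g.push)).obj ((DerNull9.Rx O V).obj X) ≅
      (DerNull9.Rx O V).obj ((TX ((ringMor φ).pull ⋙ (ringMor φ).push)).obj X) :=
    HomologicalComplex.Hom.isoOfComponents (fun n => (gamma φ V).app (X.X n))
      (fun i j _ => ((gamma φ V).hom.naturality (X.d i j)).symm)
  rw [show (DerNull9.Rx O V).map (θX ((ringMor φ).pull ⋙ (ringMor φ).push) (ringMor φ).adj.unit X) =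
      θX (g.pull ⋙ g.push) g.adj.unit ((DerNull9.Rx O V).obj X) ≫ γ.hom from
      HomologicalComplex.hom_ext _ _ fun n => (unit_gamma φ V (X.X n)).symm, Functor.map_comp]
  infer_instance

/-- Precomposition with the unit is bijective on maps into complete objects. -/
theorem bijective_unit_precomp (hI : I.IsFiniteType) (hq : QIso φ I I') (hTr : Tr φ)
    (X : CochainComplex (ModSite.Mod O) ℤ) (Z : DerivedCategory (ModSite.Mod O)) (hZ : IsDerComp O I Z) :
    Function.Bijective fun g : DerivedCategory.Q.obj ((TX ((ringMor φ).pull ⋙ (ringMor φ).push)).obj X) ⟶ Z =>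
      DerivedCategory.Q.map (θX _ (ringMor φ).adj.unit X) ≫ g := by
  haveI : IsGrothendieckAbelian.{u} (ModSite.Mod O) :=
    CohFound.isGrothendieckAbelian_sheafOfModules (ModSite.ringSh O)
  let θ := θX ((ringMor φ).pull ⋙ (ringMor φ).push) (ringMor φ).adj.unit X
  let Y := (TX ((ringMor φ).pull ⋙ (ringMor φ).push)).obj X
  let N := CochainComplex.mappingCone (𝟙 X)
  haveI : ∀ p, Mono ((CochainComplex.mappingCone.inr (𝟙 X)).f p) := fun p =>
    mono_of_mono_fac (CochainComplex.mappingCone.inr_f_snd_v (𝟙 X) p)
  haveI : Mono (CochainComplex.mappingCone.inr (𝟙 X)) := HomologicalComplex.mono_of_mono_f _ inferInstance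
  let j : X ⟶ Y ⊞ N := biprod.lift θ (CochainComplex.mappingCone.inr (𝟙 X))
  haveI : Mono j := mono_of_mono_fac (biprod.lift_snd θ (CochainComplex.mappingCone.inr (𝟙 X)))
  let S := ShortComplex.mk j (cokernel.π j) (cokernel.condition j)
  have hS : S.ShortExact := { exact := ShortComplex.exact_cokernel j }
  have hN : IsZero (DerivedCategory.Q.obj N) :=
    (Pretriangulated.Triangle.isZero₃_iff_isIso₁ _ (DerivedCategory.mappingCone_triangle_distinguished (𝟙 X))).2
      (inferInstanceAs (IsIso (DerivedCategory.Q.map (𝟙 X))))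
  haveI hfst : IsIso (DerivedCategory.Q.map (biprod.fst : Y ⊞ N ⟶ Y)) := by
    refine ⟨DerivedCategory.Q.map biprod.inl, ?_, ?_⟩
    · rw [← Functor.map_comp]
      have h := congrArg (fun z => DerivedCategory.Q.map z) (biprod.total (X := Y) (Y := N))
      simp only [Functor.map_add] at h
      rw [DerivedCategory.Q.map_comp biprod.snd biprod.inr,
        hN.eq_of_tgt (DerivedCategory.Q.map biprod.snd) 0, zero_comp,
        add_zero, CategoryTheory.Functor.map_id] at h
      exact h
    · rw [← Functor.map_comp, biprod.inl_fst, CategoryTheory.Functor.map_id]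
  have hqf : QuasiIso (biprod.fst : Y ⊞ N ⟶ Y) := (DerivedCategory.isIso_Q_map_iff_quasiIso (C := ModSite.Mod O) (biprod.fst : Y ⊞ N ⟶ Y)).1 hfst
  have hnull : DerNull9.LocallyNull O I S.X₃ := by
    intro V r a ha
    haveI : IsGrothendieckAbelian.{u} (ModSite.Mod (O.over V)) :=
      CohFound.isGrothendieckAbelian_sheafOfModules (ModSite.ringSh (O.over V))
    haveI := DerNull9.preservesFiniteLimits_restr O V
    haveI := DerNull9.preservesFiniteColimits_restr O V
    have hR : (S.map (DerNull9.Rx O V)).ShortExact :=
      HomologicalComplex.shortExact_of_degreewise_shortExact _ fun p =>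
        (hS.map_of_exact (HomologicalComplex.eval _ (ComplexShape.up ℤ) p)).map_of_exact (ModSite.restr O V)
    have hK := shortExact_kosF (DerNull9.sects O a) hR
    haveI hj : QuasiIso ((kosF (DerNull9.sects O a)).map ((DerNull9.Rx O V).map j)) := by
      haveI := quasiIso_restr_unit hq hTr ha X
      haveI : QuasiIso ((kosF (DerNull9.sects O a)).map ((DerNull9.Rx O V).map (biprod.fst : Y ⊞ N ⟶ Y))) :=
        quasiIso_kosF _ _ (haveI := hqf; inferInstance)
      haveI : QuasiIso ((kosF (DerNull9.sects O a)).map ((DerNull9.Rx O V).map j) ≫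
          (kosF (DerNull9.sects O a)).map ((DerNull9.Rx O V).map (biprod.fst : Y ⊞ N ⟶ Y))) := by
        rw [← Functor.map_comp, ← Functor.map_comp, show j ≫ biprod.fst = θ from biprod.lift_fst _ _]
        infer_instance
      exact quasiIso_of_comp_right _ ((kosF (DerNull9.sects O a)).map
        ((DerNull9.Rx O V).map (biprod.fst : Y ⊞ N ⟶ Y)))
    show IsZero (DerivedCategory.Q.obj (DerNull9.kos (DerNull9.sects O a) ((DerNull9.Rx O V).obj S.X₃)))
    rw [← kosF_obj]
    exact (Pretriangulated.Triangle.isZero₃_iff_isIso₁ _ (DerivedCategory.triangleOfSES_distinguished hK)).2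
      (inferInstanceAs (IsIso (DerivedCategory.Q.map ((kosF (DerNull9.sects O a)).map ((DerNull9.Rx O V).map j)))))
  haveI := CochainComplex.mappingCone.quasiIso_descShortComplex hS
  have h := (DerNull9.perp_of_locallyNull I hI _ hnull Z hZ).iso
    (asIso (DerivedCategory.Q.map (CochainComplex.mappingCone.descShortComplex S))).symm
  have hb := (DerNull9.bijective_precomp_iff j Z).2 h 0
  let i := (shiftFunctorZero (DerivedCategory (ModSite.Mod O)) ℤ).app Z
  have hb' := ((Iso.homCongr (Iso.refl _) i).bijective.comp hb).comp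
    (Iso.homCongr (asIso (DerivedCategory.Q.map (biprod.fst : Y ⊞ N ⟶ Y))).symm i.symm).bijective
  convert hb' using 1
  funext g
  simp only [Function.comp_apply, Iso.homCongr_apply, Iso.refl_inv, Category.id_comp, Category.assoc,
    Iso.symm_inv, asIso_hom, Iso.symm_hom, i.inv_hom_id, Category.comp_id]
  rw [← Category.assoc, ← Functor.map_comp, biprod.lift_fst]

end Groth.Agent.DerFlat9
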