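import Groth.Agent.Lib.ModFlat16.Basis
import Groth.Agent.Lib.ModFlat16.LocFT
import Groth.Prelude.Def_DerComp
import Mathlib.Algebra.Category.ModuleCat.Sheaf.ChangeOfRings

/-!
Modules killed by an ideal are modules over any ring with the same quotient by the ideal.
-/

set_option autoImplicit false
set_option linter.unusedSectionVars false
set_option linter.style.haveILetI false
set_option backward.isDefEq.respectTransparency false
set_option backward.isDefEq.respectTransparency.types false

universe u

open CategoryTheory CategoryTheory.Limits Opposite DerComp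

namespace Groth.Agent.DerFlat9

open ModFlat16

variable {C : Type u} [SmallCategory C] {J : GrothendieckTopology C} {O O' : Sheaf J CommRingCat.{u}}
  (ψ : O ⟶ O') (I : IdealSh O) (I' : IdealSh O')

/-- The map on sections. -/
abbrev pm (W : C) : O.obj.obj (op W) →+* O'.obj.obj (op W) := (ψ.hom.app (op W)).hom

theorem pm_rmap {W Z : C} (k : Z ⟶ W) (a : O.obj.obj (op W)) :
    pm ψ Z (rmap O k a) = rmap O' k (pm ψ W a) :=
  ConcreteCategory.congr_hom (ψ.hom.naturality k.op) a

/-- Restriction of scalars. -/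
noncomputable abbrev RS : ModSite.Mod O' ⥤ ModSite.Mod O :=
  SheafOfModules.restrictScalars.{u} ((sheafCompose J (forget₂ CommRingCat.{u} RingCat.{u})).map ψ)

/-- A module is killed by a sheaf of ideals. -/
def Killed (M : ModSite.Mod O) : Prop :=
  ∀ (W : C) (f : O.obj.obj (op W)), f ∈ I.ideal W → ∀ x : ModSite.sect M W, f • x = 0

/-- The hypotheses making the quotients agree. -/
structure QIso : Prop where
  ext : IsIdealExt ψ I I'
  inj : ∀ (W : C) (f : O.obj.obj (op W)), pm ψ W f ∈ I'.ideal W → f ∈ I.ideal W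
  surj : ∀ (W : C) (r : O'.obj.obj (op W)), ∃ S ∈ J W, ∀ ⦃Z : C⦄ (k : Z ⟶ W), S k →
    ∃ a : O.obj.obj (op Z), rmap O' k r - pm ψ Z a ∈ I'.ideal Z

variable {ψ I I'} {M : ModSite.Mod O} (hM : Killed I M) (hq : QIso ψ I I')

/-- `y` is the product of `r` and `x`. -/
def IsAct {W : C} (r : O'.obj.obj (op W)) (x y : ModSite.sect M W) : Prop :=
  ∀ ⦃Z : C⦄ (k : Z ⟶ W) (a : O.obj.obj (op Z)), rmap O' k r - pm ψ Z a ∈ I'.ideal Z →
    smap M k y = a • smap M k x

include hM hq in
theorem smul_congr {W : C} {a b : O.obj.obj (op W)} (h : pm ψ W a - pm ψ W b ∈ I'.ideal W)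
    (x : ModSite.sect M W) : a • x = b • x := by
  rw [← map_sub] at h
  have h0 := hM W _ (hq.inj W _ h) x
  change (show (ModSite.ringSh O).obj.obj (op W) from a) • x = _
  exact sub_eq_zero.1 ((sub_smul (R := (ModSite.ringSh O).obj.obj (op W)) a b x).symm.trans h0)

include hM hq in
theorem existsUnique_isAct {W : C} (r : O'.obj.obj (op W)) (x : ModSite.sect M W) :
    ∃! y, IsAct (ψ := ψ) (I' := I') r x y := by
  obtain ⟨S, hS, hS'⟩ := hq.surj W r
  choose a ha using hS'
  have hsh : Presieve.IsSheaf J (M.val.presheaf ⋙ forget AddCommGrpCat.{u}) :=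
    (isSheaf_iff_isSheaf_of_type _ _).1 ((Presheaf.isSheaf_iff_isSheaf_forget J _ (forget _)).1 M.isSheaf)
  let fam : Presieve.FamilyOfElements (M.val.presheaf ⋙ forget AddCommGrpCat.{u}) S.arrows := fun Z k hk =>
    a k hk • smap M k x
  have key : ∀ {Z Z' : C} (k : Z ⟶ W) (g : Z' ⟶ Z) (b : O.obj.obj (op Z)) (c : O.obj.obj (op Z')),
      rmap O' k r - pm ψ Z b ∈ I'.ideal Z → rmap O' (g ≫ k) r - pm ψ Z' c ∈ I'.ideal Z' →
      smap M g (b • smap M k x) = c • smap M (g ≫ k) x := fun {Z Z'} k g b c hb hc => by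
    rw [smap_smul, ← smap_comp]
    refine smul_congr hM hq ?_ _
    have h1 := I'.map_mem g hb
    change rmap O' g (rmap O' k r - pm ψ Z b) ∈ I'.ideal Z' at h1
    rw [map_sub, ← rmap_comp, ← pm_rmap] at h1
    have h2 := (I'.ideal Z').sub_mem hc h1
    rwa [sub_sub_sub_cancel_left] at h2
  have hc : fam.Compatible := fun Z₁ Z₂ T g₁ g₂ k₁ k₂ h₁ h₂ e => by
    show smap M g₁ (a k₁ h₁ • smap M k₁ x) = smap M g₂ (a k₂ h₂ • smap M k₂ x)
    have h := I'.map_mem g₁ (ha k₁ h₁)
    change rmap O' g₁ (rmap O' k₁ r - pm ψ Z₁ (a k₁ h₁)) ∈ I'.ideal T at h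
    rw [map_sub, ← rmap_comp, ← pm_rmap] at h
    rw [key k₁ g₁ _ (rmap O g₁ (a k₁ h₁)) (ha k₁ h₁) h]
    rw [e] at h ⊢
    rw [key k₂ g₂ _ (rmap O g₁ (a k₁ h₁)) (ha k₂ h₂) h]
  let y : ModSite.sect M W := (hsh S hS).amalgamate fam hc
  have hy : ∀ ⦃Z : C⦄ (k : Z ⟶ W) (hk : S k), smap M k y = a k hk • smap M k x := fun Z k hk =>
    (hsh S hS).valid_glue hc k hk
  refine ⟨y, fun Z k b hb => ?_, fun z hz => eq_of_locally z y S hS fun Z k hk =>
    (hz k (a k hk) (ha k hk)).trans (hy k hk).symm⟩
  refine eq_of_locally _ _ (S.pullback k) (J.pullback_stable k hS) fun T g hg => ?_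
  rw [← smap_comp, hy (g ≫ k) hg, key k g b (a (g ≫ k) hg) hb (ha (g ≫ k) hg)]

/-- The product. -/
noncomputable def act {W : C} (r : O'.obj.obj (op W)) (x : ModSite.sect M W) : ModSite.sect M W :=
  (existsUnique_isAct hM hq r x).exists.choose

theorem isAct_act {W : C} (r : O'.obj.obj (op W)) (x : ModSite.sect M W) :
    IsAct (ψ := ψ) (I' := I') r x (act hM hq r x) :=
  (existsUnique_isAct hM hq r x).exists.choose_spec

theorem act_eq {W : C} {r : O'.obj.obj (op W)} {x y : ModSite.sect M W} {a : O.obj.obj (op W)}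
    (h : r - pm ψ W a ∈ I'.ideal W) (e : a • x = y) : act hM hq r x = y := by
  have h' : rmap O' (𝟙 W) r - pm ψ W a ∈ I'.ideal W := by
    rwa [show rmap O' (𝟙 W) r = r by simp [rmap]]
  have := isAct_act hM hq r x (𝟙 W) a h'
  rwa [smap_id, smap_id, e] at this

theorem smap_act {W Z : C} (k : Z ⟶ W) (r : O'.obj.obj (op W)) (x : ModSite.sect M W) :
    smap M k (act hM hq r x) = act hM hq (rmap O' k r) (smap M k x) := by
  obtain ⟨S, hS, hS'⟩ := hq.surj Z (rmap O' k r)
  refine eq_of_locally _ _ S hS fun T g hg => ?_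
  obtain ⟨a, ha⟩ := hS' g hg
  rw [isAct_act hM hq (rmap O' k r) (smap M k x) g a ha, ← smap_comp, ← smap_comp]
  exact isAct_act hM hq r x (g ≫ k) a (by rwa [rmap_comp])

theorem act_add {W : C} (r : O'.obj.obj (op W)) (x y : ModSite.sect M W) :
    act hM hq r (x + y) = act hM hq r x + act hM hq r y := by
  obtain ⟨S, hS, hS'⟩ := hq.surj W r
  refine eq_of_locally _ _ S hS fun T g hg => ?_
  obtain ⟨a, ha⟩ := hS' g hg
  rw [map_add, isAct_act hM hq r (x + y) g a ha, isAct_act hM hq r x g a ha, isAct_act hM hq r y g a ha, map_add,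
    smul_add]

theorem add_act {W : C} (r s : O'.obj.obj (op W)) (x : ModSite.sect M W) :
    act hM hq (r + s) x = act hM hq r x + act hM hq s x := by
  obtain ⟨S, hS, hS'⟩ := hq.surj W r
  obtain ⟨T, hT, hT'⟩ := hq.surj W s
  refine eq_of_locally _ _ _ (J.intersection_covering hS hT) fun Z g hg => ?_
  obtain ⟨a, ha⟩ := hS' g hg.1
  obtain ⟨b, hb⟩ := hT' g hg.2
  rw [map_add, isAct_act hM hq (r + s) x g (a + b) (by
      rw [map_add, map_add, add_sub_add_comm]; exact (I'.ideal Z).add_mem ha hb),
    isAct_act hM hq r x g a ha, isAct_act hM hq s x g b hb]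
  exact add_smul (R := (ModSite.ringSh O).obj.obj (op Z)) a b _

theorem mul_act {W : C} (r s : O'.obj.obj (op W)) (x : ModSite.sect M W) :
    act hM hq (r * s) x = act hM hq r (act hM hq s x) := by
  obtain ⟨S, hS, hS'⟩ := hq.surj W r
  obtain ⟨T, hT, hT'⟩ := hq.surj W s
  refine eq_of_locally _ _ _ (J.intersection_covering hS hT) fun Z g hg => ?_
  obtain ⟨a, ha⟩ := hS' g hg.1
  obtain ⟨b, hb⟩ := hT' g hg.2
  rw [isAct_act hM hq (r * s) x g (a * b) (by
      have e : rmap O' g (r * s) - pm ψ Z (a * b) =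
          (rmap O' g r - pm ψ Z a) * rmap O' g s + pm ψ Z a * (rmap O' g s - pm ψ Z b) := by
        rw [map_mul, map_mul]; ring
      rw [e]
      exact (I'.ideal Z).add_mem (Ideal.mul_mem_right _ _ ha) (Ideal.mul_mem_left _ _ hb)),
    isAct_act hM hq r _ g a ha, isAct_act hM hq s x g b hb]
  exact mul_smul (α := (ModSite.ringSh O).obj.obj (op Z)) a b _

/-- The module structure. -/
noncomputable def moduleAct (W : Cᵒᵖ) :
    Module ((ModSite.ringSh O').obj.obj W) (M.val.presheaf.obj W) where
  smul r x := act hM hq (W := W.unop) r x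
  one_smul x := act_eq hM hq (W := W.unop) (a := 1) (by rw [map_one]; exact (sub_self (1 : O'.obj.obj W)).symm ▸ zero_mem _)
    (one_smul ((ModSite.ringSh O).obj.obj W) x)
  mul_smul r s x := mul_act hM hq (W := W.unop) r s x
  smul_zero r := (AddMonoidHom.mk' _ fun x y => act_add hM hq (W := W.unop) r x y).map_zero
  smul_add r x y := act_add hM hq (W := W.unop) r x y
  add_smul r s x := add_act hM hq (W := W.unop) r s x
  zero_smul x := act_eq hM hq (W := W.unop) (a := 0) (by rw [map_zero]; exact (sub_self (0 : O'.obj.obj W)).symm ▸ zero_mem _)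
    (zero_smul ((ModSite.ringSh O).obj.obj W) x)

/-- A killed module as a module upstairs. -/
noncomputable def upMod : ModSite.Mod O' :=
  letI : ∀ W, Module ((ModSite.ringSh O').obj.obj W) (M.val.presheaf.obj W) := moduleAct hM hq
  { val := PresheafOfModules.ofPresheaf M.val.presheaf fun {W Z} k r x => smap_act hM hq k.unop r x
    isSheaf := M.isSheaf }

/-- Restricting the scalars back. -/
noncomputable def upIso : (RS ψ).obj (upMod hM hq) ≅ M :=
  (SheafOfModules.fullyFaithfulForget _).preimageIso
    (PresheafOfModules.isoMk (fun W => (LinearEquiv.toModuleIso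
      (show ((RS ψ).obj (upMod hM hq)).val.obj W ≃ₗ[(ModSite.ringSh O).obj.obj W] M.val.obj W from
      { toFun := id
        invFun := id
        left_inv := fun _ => rfl
        right_inv := fun _ => rfl
        map_add' := fun _ _ => rfl
        map_smul' := fun a x => act_eq hM hq (W := W.unop) (r := pm ψ W.unop a) (a := a)
          ((sub_self (pm ψ W.unop a)).symm ▸ zero_mem _) rfl }))))

include hM hq in
/-- The images of a killed module are killed by the extended ideal. -/
theorem eq_zero_of_mem {N : ModSite.Mod O'} (g : M ⟶ (RS ψ).obj N) {W : C} {r : O'.obj.obj (op W)}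
    (hr : r ∈ I'.ideal W) (x : ModSite.sect M W) :
    r • (show ModSite.sect N W from g.val.app (op W) x) = 0 := by
  let Q : IdealSh O' :=
    { ideal := fun W =>
        { carrier := {r | ∀ (Z : C) (k : Z ⟶ W) (x : ModSite.sect M Z),
            rmap O' k r • (show ModSite.sect N Z from g.val.app (op Z) x) = 0}
          add_mem' := fun {r s} hr hs Z k x => by
            rw [map_add]
            exact ((add_smul (R := (ModSite.ringSh O').obj.obj (op Z)) _ _ _).trans
              (by erw [hr Z k x, hs Z k x]; exact add_zero _))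
          zero_mem' := fun Z k x => by
            rw [map_zero]; exact zero_smul ((ModSite.ringSh O').obj.obj (op Z)) _
          smul_mem' := fun c r hr Z k x => by
            rw [smul_eq_mul, map_mul]
            exact (mul_smul (α := (ModSite.ringSh O').obj.obj (op Z)) _ _ _).trans
              (by erw [hr Z k x]; exact smul_zero _) }
      map_mem := fun {U V} q r hr Z k x => by
        have := hr Z (k ≫ q) x
        rwa [rmap_comp] at this
      glue := fun {U r} S hS h Z k x => by
        refine eq_of_locally _ _ (S.pullback k) (J.pullback_stable k hS) fun T l hl => ?_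
        rw [map_zero, smap_smul, ← rmap_comp]
        have h' := h (l ≫ k) hl T (𝟙 T) (smap M l x)
        rw [← rmap_comp, Category.id_comp] at h'
        have e : smap N l (show ModSite.sect N Z from g.val.app (op Z) x) =
            (show ModSite.sect N T from g.val.app (op T) (smap M l x)) :=
          (PresheafOfModules.naturality_apply g.val l.op x).symm
        rw [e]
        exact h' }
  have hmaps : MapsIdealInto ψ I Q := fun W f hf Z k x => by
    have h0 := congrArg (fun z : ModSite.sect M Z => g.val.app (op Z) z) (hM Z _ (I.map_mem k hf) x)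
    change rmap O' k (pm ψ W f) • _ = 0
    rw [← pm_rmap]
    exact ((g.val.app (op Z)).hom.map_smul (rmap O k f) x).symm.trans (h0.trans (map_zero (g.val.app (op Z)).hom))
  have := hq.ext.2 Q hmaps W hr W (𝟙 W) x
  rwa [show rmap O' (𝟙 W) r = r by simp [rmap]] at this

/-- Maps out of a killed module are linear upstairs. -/
noncomputable def upHom {N : ModSite.Mod O'} (g : M ⟶ (RS ψ).obj N) : upMod hM hq ⟶ N where
  val := PresheafOfModules.homMk (show (upMod hM hq).val.presheaf ⟶ N.val.presheaf from
      (PresheafOfModules.toPresheaf (ModSite.ringSh O).obj).map g.val) fun W r x => by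
    show g.val.app W (act hM hq (W := W.unop) r x) = r • (show ModSite.sect N W.unop from g.val.app W x)
    obtain ⟨S, hS, hS'⟩ := hq.surj W.unop r
    refine eq_of_locally (M := N) (V := W.unop) _ _ S hS fun Z k hk => ?_
    obtain ⟨a, ha⟩ := hS' k hk
    have e : ∀ z : ModSite.sect M W.unop, smap N k (show ModSite.sect N W.unop from g.val.app W z) =
        (show ModSite.sect N Z from g.val.app (op Z) (smap M k z)) := fun z =>
      (PresheafOfModules.naturality_apply g.val k.op z).symm
    rw [smap_smul, e, e, isAct_act hM hq (W := W.unop) r x k a ha]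
    have h0 := eq_zero_of_mem hM hq g ha (smap M k x)
    erw [sub_smul, sub_eq_zero] at h0
    exact ((g.val.app (op Z)).hom.map_smul a _).trans h0.symm

/-- `upIso` intertwines `upHom`. -/
theorem upIso_upHom {N : ModSite.Mod O'} (g : M ⟶ (RS ψ).obj N) :
    (upIso hM hq).inv ≫ (RS ψ).map (upHom hM hq g) = g :=
  SheafOfModules.hom_ext (PresheafOfModules.hom_ext fun _ => ModuleCat.hom_ext (LinearMap.ext fun _ => rfl))

/-- Restriction of scalars is faithful. -/
theorem rs_map_injective {N N' : ModSite.Mod O'} {a b : N ⟶ N'} (h : (RS ψ).map a = (RS ψ).map b) : a = b :=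
  SheafOfModules.hom_ext (PresheafOfModules.hom_ext fun W => ModuleCat.hom_ext (LinearMap.ext fun x =>
    congrArg (fun t : (RS ψ).obj N ⟶ (RS ψ).obj N' => t.val.app W x) h))

include hM hq in
/-- The unit of an adjunction with restriction of scalars is invertible on killed modules. -/
theorem isIso_unit {P : ModSite.Mod O ⥤ ModSite.Mod O'} (adj : P ⊣ RS ψ) : IsIso (adj.unit.app M) := by
  let e := upIso hM hq
  let g := upHom hM hq (adj.unit.app M)
  let c := (adj.homEquiv _ _).symm e.inv
  have hc : adj.unit.app M ≫ (RS ψ).map c = e.inv := by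
    exact (adj.homEquiv_unit ..).symm.trans ((adj.homEquiv _ _).apply_symm_apply _)
  have hg : e.inv ≫ (RS ψ).map g = adj.unit.app M := upIso_upHom hM hq _
  have h1 : c ≫ g = 𝟙 _ := (adj.homEquiv _ _).injective (by
    rw [adj.homEquiv_unit, adj.homEquiv_unit, Functor.map_comp, ← Category.assoc, hc, hg,
      CategoryTheory.Functor.map_id]; erw [Category.comp_id])
  refine ⟨(RS ψ).map c ≫ e.hom, by rw [← Category.assoc, hc, Iso.inv_hom_id], ?_⟩
  calc ((RS ψ).map c ≫ e.hom) ≫ adj.unit.app M = (RS ψ).map (c ≫ g) := by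
        rw [← hg, Functor.map_comp, Category.assoc, Iso.hom_inv_id_assoc]
    _ = 𝟙 _ := by rw [h1, CategoryTheory.Functor.map_id]

end Groth.Agent.DerFlat9
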